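import Mathlib

/-!
# Ree's inequality for permutations via Scott's lemma

If `x * y * z = 1` in `Perm α`, then
`c(x) + c(y) + c(z) ≤ |α| + 2 * t`, where `c(g)` is the number of cycles of `g` (orbits of
`zpowers g`) and `t` is the number of orbits of the group generated by `x` and `y`.
-/

set_option autoImplicit false
set_option linter.style.haveILetI false

namespace Cfsg.Agent.Lib.H5.Ree

open Module

variable {α : Type*} [Fintype α] [DecidableEq α]

/-- the permutation action on rational functions -/
noncomputable def P (g : Equiv.Perm α) : (α → ℚ) →ₗ[ℚ] (α → ℚ) := LinearMap.funLeft ℚ ℚ g.symm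

theorem P_apply (g : Equiv.Perm α) (f : α → ℚ) (a : α) : P g f a = f (g.symm a) := rfl

theorem P_mul (g h : Equiv.Perm α) : P (g * h) = P g ∘ₗ P h := by
  apply LinearMap.ext
  intro f
  funext a
  rfl

theorem P_one : P (1 : Equiv.Perm α) = LinearMap.id := by
  apply LinearMap.ext
  intro f
  funext a
  rfl

theorem P_single (g : Equiv.Perm α) (a : α) : P g (Pi.single a 1) = Pi.single (g a) 1 := by
  ext b
  rw [P_apply, Pi.single_apply, Pi.single_apply]
  congr 1
  rw [eq_iff_iff]
  constructor
  · intro h
    rw [← h, Equiv.apply_symm_apply]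
  · intro h
    rw [h, Equiv.symm_apply_apply]

/-- `1 - g` -/
noncomputable def D (g : Equiv.Perm α) : (α → ℚ) →ₗ[ℚ] (α → ℚ) := LinearMap.id - P g

theorem D_apply (g : Equiv.Perm α) (f : α → ℚ) : D g f = f - P g f := rfl

/-- the functions invariant under a group of permutations -/
def inv (H : Subgroup (Equiv.Perm α)) : Submodule ℚ (α → ℚ) where
  carrier := {f | ∀ h ∈ H, ∀ a, f (h a) = f a}
  add_mem' := by
    intro f f' hf hf' h hh a
    rw [Pi.add_apply, Pi.add_apply, hf h hh a, hf' h hh a]
  zero_mem' := by
    intro h _ a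
    rfl
  smul_mem' := by
    intro c f hf h hh a
    rw [Pi.smul_apply, Pi.smul_apply, hf h hh a]

theorem mem_inv {H : Subgroup (Equiv.Perm α)} {f : α → ℚ} :
    f ∈ inv H ↔ ∀ h ∈ H, ∀ a, f (h a) = f a := Iff.rfl

/-- the number of orbits -/
noncomputable def orb (H : Subgroup (Equiv.Perm α)) : ℕ :=
  Nat.card (MulAction.orbitRel.Quotient H α)

/-- the dimension of the invariant functions is the number of orbits -/
theorem finrank_inv (H : Subgroup (Equiv.Perm α)) : finrank ℚ (inv H) = orb H := by
  classical
  let Φ : (MulAction.orbitRel.Quotient H α → ℚ) →ₗ[ℚ] (α → ℚ) :=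
    LinearMap.funLeft ℚ ℚ (Quotient.mk (MulAction.orbitRel H α))
  have hinj : Function.Injective Φ := by
    intro w w' hww
    funext q
    induction q using Quotient.inductionOn with
    | h a => exact congrFun hww a
  have hrange : LinearMap.range Φ = inv H := by
    ext f
    rw [LinearMap.mem_range, mem_inv]
    constructor
    · rintro ⟨w, rfl⟩ h hh a
      show w (Quotient.mk _ (h a)) = w (Quotient.mk _ a)
      congr 1
      apply Quotient.sound
      exact ⟨⟨h, hh⟩, rfl⟩
    · intro hf
      refine ⟨fun q => Quotient.liftOn q f ?_, ?_⟩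
      · rintro a b ⟨⟨h, hh⟩, rfl⟩
        exact hf h hh b
      · funext a
        rfl
  haveI : Fintype (MulAction.orbitRel.Quotient H α) := Fintype.ofFinite _
  rw [← hrange, LinearMap.finrank_range_of_inj hinj, Module.finrank_fintype_fun_eq_card, orb,
    Nat.card_eq_fintype_card]

theorem ker_D (g : Equiv.Perm α) : LinearMap.ker (D g) = inv (Subgroup.zpowers g) := by
  ext f
  rw [LinearMap.mem_ker, D_apply, sub_eq_zero, mem_inv]
  constructor
  · intro hf
    have h1 : ∀ a, f (g a) = f a := by
      intro a
      have := congrFun hf (g a)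
      rw [P_apply, Equiv.symm_apply_apply] at this
      exact this
    have h2 : ∀ a, f (g.symm a) = f a := by
      intro a
      have := h1 (g.symm a)
      rw [Equiv.apply_symm_apply] at this
      exact this.symm
    intro h hh
    rw [Subgroup.mem_zpowers_iff] at hh
    obtain ⟨k, rfl⟩ := hh
    induction k using Int.induction_on with
    | zero => intro a; simp
    | succ k ih =>
      intro a
      rw [zpow_add_one, Equiv.Perm.mul_apply, ih, h1]
    | pred k ih =>
      intro a
      rw [zpow_sub_one, Equiv.Perm.mul_apply, ih, Equiv.Perm.inv_def, h2]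
  · intro hf
    funext a
    rw [P_apply]
    have := hf g (Subgroup.mem_zpowers g) (g.symm a)
    rw [Equiv.apply_symm_apply] at this
    exact this

/-- the number of cycles of a permutation -/
noncomputable def cyc (g : Equiv.Perm α) : ℕ := orb (Subgroup.zpowers g)

theorem finrank_range_D (g : Equiv.Perm α) :
    finrank ℚ (LinearMap.range (D g)) + cyc g = Fintype.card α := by
  have h := LinearMap.finrank_range_add_finrank_ker (D g)
  rw [ker_D, finrank_inv, Module.finrank_fintype_fun_eq_card] at h
  exact h

theorem mem_inv_closure {x y : Equiv.Perm α} {f : α → ℚ} (hx : ∀ a, f (x a) = f a)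
    (hy : ∀ a, f (y a) = f a) : f ∈ inv (Subgroup.closure {x, y}) := by
  intro h hh
  induction hh using Subgroup.closure_induction with
  | mem g hg =>
    rcases hg with rfl | rfl
    · exact hx
    · exact hy
  | one => intro a; rfl
  | mul g g' _ _ ihg ihg' =>
    intro a
    rw [Equiv.Perm.mul_apply, ihg, ihg']
  | inv g _ ihg =>
    intro a
    have := ihg (g⁻¹ a)
    rw [Equiv.Perm.inv_def, Equiv.apply_symm_apply] at this
    rw [Equiv.Perm.inv_def]
    exact this.symm

section Main

variable (x y z : Equiv.Perm α)

/-- `v ↦ ((1 - x) v, (1 - y) v, (1 - z) v)` -/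
noncomputable def beta : (α → ℚ) →ₗ[ℚ]
    (LinearMap.range (D x) × LinearMap.range (D y) × LinearMap.range (D z)) :=
  ((D x).rangeRestrict).prod (((D y).rangeRestrict).prod ((D z).rangeRestrict))

/-- `(w₁, w₂, w₃) ↦ w₁ + x w₂ + x y w₃` -/
noncomputable def delta : (LinearMap.range (D x) × LinearMap.range (D y) × LinearMap.range (D z))
    →ₗ[ℚ] (α → ℚ) :=
  (Submodule.subtype _).coprod ((P x ∘ₗ Submodule.subtype _).coprod
    (P x ∘ₗ P y ∘ₗ Submodule.subtype _))

theorem delta_apply (w : LinearMap.range (D x) × LinearMap.range (D y) × LinearMap.range (D z)) :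
    delta x y z w = (w.1 : α → ℚ) + (P x (w.2.1 : α → ℚ) + P x (P y (w.2.2 : α → ℚ))) := rfl

theorem delta_beta (h : x * y * z = 1) (v : α → ℚ) : delta x y z (beta x y z v) = 0 := by
  rw [delta_apply]
  show D x v + (P x (D y v) + P x (P y (D z v))) = 0
  have h1 : P x (P y (P z v)) = v := by
    have : (P x ∘ₗ P y ∘ₗ P z) v = v := by
      rw [← P_mul, ← P_mul, ← mul_assoc, h, P_one]
      rfl
    exact this
  rw [D_apply, D_apply, D_apply, map_sub, map_sub, map_sub, h1]
  abel

theorem ker_beta_le : LinearMap.ker (beta x y z) ≤ inv (Subgroup.closure {x, y}) := by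
  intro f hf
  rw [LinearMap.mem_ker] at hf
  have h1 : D x f = 0 := by
    have := congrArg (fun w => (w.1 : α → ℚ)) hf
    exact this
  have h2 : D y f = 0 := by
    have := congrArg (fun w => (w.2.1 : α → ℚ)) hf
    exact this
  have hx : f ∈ inv (Subgroup.zpowers x) := by
    rw [← ker_D]; exact h1
  have hy : f ∈ inv (Subgroup.zpowers y) := by
    rw [← ker_D]; exact h2
  exact mem_inv_closure (fun a => hx x (Subgroup.mem_zpowers x) a)
    (fun a => hy y (Subgroup.mem_zpowers y) a)

theorem finrank_range_beta_ge :
    Fintype.card α ≤ finrank ℚ (LinearMap.range (beta x y z)) + orb (Subgroup.closure {x, y}) := by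
  have h := LinearMap.finrank_range_add_finrank_ker (beta x y z)
  rw [Module.finrank_fintype_fun_eq_card] at h
  have h2 := Submodule.finrank_mono (ker_beta_le x y z)
  rw [finrank_inv] at h2
  omega

/-- the coefficient function of a functional killing the range of `delta` is invariant -/
theorem coeff_mem_inv (φ : Module.Dual ℚ (α → ℚ)) (hφ : φ ∈ LinearMap.ker (delta x y z).dualMap) :
    (fun a => φ (Pi.single a 1)) ∈ inv (Subgroup.closure {x, y}) := by
  rw [LinearMap.mem_ker] at hφ
  have hkill : ∀ w, φ (delta x y z w) = 0 := by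
    intro w
    have := congrArg (fun ψ : Module.Dual ℚ _ => ψ w) hφ
    exact this
  have h1 : ∀ v, φ (D x v) = 0 := by
    intro v
    have := hkill (⟨D x v, LinearMap.mem_range_self _ v⟩, 0, 0)
    rw [delta_apply] at this
    simpa using this
  have hPx : ∀ v, φ (P x v) = φ v := by
    intro v
    have := h1 v
    rw [D_apply, map_sub, sub_eq_zero] at this
    exact this.symm
  have h2 : ∀ v, φ (D y v) = 0 := by
    intro v
    have := hkill (0, ⟨D y v, LinearMap.mem_range_self _ v⟩, 0)
    rw [delta_apply] at this
    simp only [Prod.fst_zero, ZeroMemClass.coe_zero, Prod.snd_zero, map_zero, add_zero, zero_add] at this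
    rw [hPx] at this
    exact this
  have hPy : ∀ v, φ (P y v) = φ v := by
    intro v
    have := h2 v
    rw [D_apply, map_sub, sub_eq_zero] at this
    exact this.symm
  apply mem_inv_closure
  · intro a
    show φ (Pi.single (x a) 1) = φ (Pi.single a 1)
    rw [← P_single, hPx]
  · intro a
    show φ (Pi.single (y a) 1) = φ (Pi.single a 1)
    rw [← P_single, hPy]

theorem finrank_range_delta_ge :
    Fintype.card α ≤ finrank ℚ (LinearMap.range (delta x y z)) + orb (Subgroup.closure {x, y}) := by
  classical
  have h1 := LinearMap.finrank_range_dualMap_eq_finrank_range (delta x y z)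
  have h2 := LinearMap.finrank_range_add_finrank_ker (delta x y z).dualMap
  rw [Subspace.dual_finrank_eq, Module.finrank_fintype_fun_eq_card] at h2
  -- the kernel of the dual map embeds into the invariant functions
  let Ψ : LinearMap.ker (delta x y z).dualMap →ₗ[ℚ] inv (Subgroup.closure {x, y}) :=
    { toFun := fun φ => ⟨fun a => φ.1 (Pi.single a 1), coeff_mem_inv x y z φ.1 φ.2⟩
      map_add' := by
        intro φ ψ
        apply Subtype.ext
        funext a
        rfl
      map_smul' := by
        intro c φ
        apply Subtype.ext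
        funext a
        rfl }
  have hΨ : Function.Injective Ψ := by
    intro φ ψ hφψ
    apply Subtype.ext
    apply LinearMap.pi_ext
    intro a c
    have h := congrFun (congrArg Subtype.val hφψ) a
    have h' : φ.1 (Pi.single a 1) = ψ.1 (Pi.single a 1) := h
    have hc : (Pi.single a c : α → ℚ) = c • Pi.single a 1 := by
      rw [← Pi.single_smul, smul_eq_mul, mul_one]
    rw [hc, map_smul, map_smul, h']
  have h3 := LinearMap.finrank_le_finrank_of_injective hΨ
  rw [finrank_inv] at h3
  omega

/-- **Ree's inequality** -/
theorem ree (h : x * y * z = 1) :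
    cyc x + cyc y + cyc z ≤ Fintype.card α + 2 * orb (Subgroup.closure {x, y}) := by
  have hle : LinearMap.range (beta x y z) ≤ LinearMap.ker (delta x y z) := by
    rintro w ⟨v, rfl⟩
    rw [LinearMap.mem_ker]
    exact delta_beta x y z h v
  have h1 := Submodule.finrank_mono hle
  have h2 := LinearMap.finrank_range_add_finrank_ker (delta x y z)
  rw [Module.finrank_prod, Module.finrank_prod] at h2
  have h3 := finrank_range_beta_ge x y z
  have h4 := finrank_range_delta_ge x y z
  have hx := finrank_range_D x
  have hy := finrank_range_D y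
  have hz := finrank_range_D z
  omega

end Main

end Cfsg.Agent.Lib.H5.Ree
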