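import Mathlib
import Cfsg.Agent.Lib.H5.Ree.Scott

/-!
# The number of cycles of a permutation of prime order (Burnside)
-/

set_option autoImplicit false

namespace Cfsg.Agent.Lib.H5.Ree

variable {α : Type*} [Fintype α] [DecidableEq α]

/-- the fixed points of a permutation -/
def fixF (g : Equiv.Perm α) : Finset α := Finset.univ.filter (fun a => g a = a)

theorem mem_fixF {g : Equiv.Perm α} {a : α} : a ∈ fixF g ↔ g a = a := by
  rw [fixF, Finset.mem_filter]
  exact ⟨fun h => h.2, fun h => ⟨Finset.mem_univ _, h⟩⟩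

theorem fixedBy_eq_of_ne_one {g : Equiv.Perm α} {p : ℕ} (hp : p.Prime) (hg : orderOf g = p)
    (h : Subgroup.zpowers g) (hh : h ≠ 1) (a : α) : h • a = a ↔ g a = a := by
  haveI : Fact p.Prime := ⟨hp⟩
  have hcard : Nat.card (Subgroup.zpowers g) = p := by rw [Nat.card_zpowers, hg]
  have htop := zpowers_eq_top_of_prime_card hcard hh
  obtain ⟨k, hk⟩ := Subgroup.mem_zpowers_iff.1 h.2
  have hg' : (⟨g, Subgroup.mem_zpowers g⟩ : Subgroup.zpowers g) ∈ Subgroup.zpowers h := by
    rw [htop]; exact Subgroup.mem_top _
  obtain ⟨j, hj⟩ := Subgroup.mem_zpowers_iff.1 hg'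
  have hj' : (h : Equiv.Perm α) ^ j = g := by
    have := congrArg Subtype.val hj
    simpa using this
  constructor
  · intro ha
    have ha' : (h : Equiv.Perm α) a = a := ha
    rw [← hj']
    exact Equiv.Perm.zpow_apply_eq_self_of_apply_eq_self ha' j
  · intro ha
    show (h : Equiv.Perm α) a = a
    rw [← hk]
    exact Equiv.Perm.zpow_apply_eq_self_of_apply_eq_self ha k

theorem cyc_mul_prime (g : Equiv.Perm α) {p : ℕ} (hp : p.Prime) (hg : orderOf g = p) :
    cyc g * p = Fintype.card α + (p - 1) * (fixF g).card := by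
  classical
  haveI : Fintype (MulAction.orbitRel.Quotient (Subgroup.zpowers g) α) := Fintype.ofFinite _
  have hB := MulAction.sum_card_fixedBy_eq_card_orbits_mul_card_group (Subgroup.zpowers g) α
  have hcard : Fintype.card (Subgroup.zpowers g) = p := by
    rw [← Nat.card_eq_fintype_card, Nat.card_zpowers, hg]
  have hF : ∀ h : Subgroup.zpowers g, Fintype.card (MulAction.fixedBy α h) =
      if h = 1 then Fintype.card α else (fixF g).card := by
    intro h
    split_ifs with h1
    · subst h1
      rw [Fintype.card_congr (Equiv.subtypeUnivEquiv (fun a => ?_))]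
      show (1 : Subgroup.zpowers g) • a = a
      exact one_smul _ a
    · rw [← Fintype.card_coe (fixF g)]
      apply Fintype.card_congr
      refine Equiv.subtypeEquivRight (fun a => ?_)
      rw [MulAction.mem_fixedBy, mem_fixF]
      exact fixedBy_eq_of_ne_one hp hg h h1 a
  rw [Finset.sum_congr rfl (fun h _ => hF h), ← Finset.add_sum_erase Finset.univ _ (Finset.mem_univ 1),
    if_pos rfl, Finset.sum_congr rfl (fun h hh => if_neg (Finset.ne_of_mem_erase hh)),
    Finset.sum_const, Finset.card_erase_of_mem (Finset.mem_univ _), Finset.card_univ, hcard,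
    smul_eq_mul] at hB
  rw [cyc, orb, Nat.card_eq_fintype_card]
  exact hB.symm

end Cfsg.Agent.Lib.H5.Ree
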